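import Cfsg.Agent.Lib.DCE.Ly.Inv3.Defs

/-! The elements of `K` conjugate to the element of order three. -/

namespace Cfsg.Agent.Lib.DCE.Ly.Inv3.Cls

open Cfsg.Agent.Lib.TC.Core Cfsg.Agent.Lib.TC.Enc Cfsg.Agent.Lib.TC.Pres Cfsg.Agent.Lib.TC.Iso Cfsg.Agent.Lib.DCE.MatP
  Cfsg.Agent.Lib.DCE.Ly.Setup Cfsg.Agent.Lib.DCE.Ly.Rules Cfsg.Agent.Lib.DCE.Ly.Gens
  Cfsg.Agent.Lib.DCE.Ly.Inv.Defs Cfsg.Agent.Lib.DCE.Ly.Inv3.Defs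

set_option maxRecDepth 100000

/-- The words of the conjugating elements. -/
def repW : List (List Nat) := [[]]

/-- The words of the representatives in `K`. -/
def repK : List (List Nat) := [[5,14]]

theorem hrep : ∀ r, r < 1 → wEq (cwx (repW.getD r [])) (kL (repK.getD r [])) = true := by decide +kernel

theorem hrep_lt : ∀ r, r < 1 → lt10 (repW.getD r []) = true ∧ ltB 16 (repK.getD r []) = true := by decide +kernel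

/-- The data of the elements. -/
noncomputable def eT : Tr Nat :=
  (Tr.node (Tr.node (Tr.node (Tr.node (Tr.node (Tr.node (Tr.node (Tr.node (Tr.leaf (nat_lit 0x1)) (Tr.leaf (nat_lit 0x70a0c1))) (Tr.node (Tr.leaf (nat_lit 0x1cf41c21)) (Tr.leaf (nat_lit 0x741c41)))) (Tr.node (Tr.node (Tr.leaf (nat_lit 0x70901)) (Tr.leaf (nat_lit 0xe38501))) (Tr.node (Tr.leaf (nat_lit 0x81881)) (Tr.leaf (nat_lit 0))))) (Tr.node (Tr.node (Tr.node (Tr.leaf (nat_lit 0xf81821)) (Tr.leaf (nat_lit 0x3c21))) (Tr.node (Tr.leaf (nat_lit 0x10c1)) (Tr.leaf (nat_lit 0)))) (Tr.node (Tr.node (Tr.leaf (nat_lit 0x3021)) (Tr.leaf (nat_lit 0x42821))) (Tr.node (Tr.leaf (nat_lit 0x741c21)) (Tr.leaf (nat_lit 0)))))) (Tr.node (Tr.node (Tr.node (Tr.node (Tr.leaf (nat_lit 0x611d01)) (Tr.leaf (nat_lit 0x32041))) (Tr.node (Tr.leaf (nat_lit 0x2061)) (Tr.leaf (nat_lit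 0)))) (Tr.node (Tr.node (Tr.leaf (nat_lit 0x3861)) (Tr.leaf (nat_lit 0x3981))) (Tr.node (Tr.leaf (nat_lit 0x4081)) (Tr.leaf (nat_lit 0))))) (Tr.node (Tr.node (Tr.node (Tr.leaf (nat_lit 0x7a021)) (Tr.leaf (nat_lit 0x2501))) (Tr.node (Tr.leaf (nat_lit 0x741881)) (Tr.leaf (nat_lit 0)))) (Tr.node (Tr.node (Tr.leaf (nat_lit 0x901)) (Tr.leaf (nat_lit 0x63021))) (Tr.node (Tr.leaf (nat_lit 0x2901)) (Tr.leaf (nat_lit 0))))))) (Tr.node (Tr.node (Tr.node (Tr.node (Tr.node (Tr.leaf (nat_lit 0xc1)) (Tr.leaf (nat_lit 0x41))) (Tr.node (Tr.leaf (nat_lit 0x1cf41841)) (Tr.leaf (nat_lit 0x1c741c41)))) (Tr.node (Tr.node (Tr.leaf (nat_lit 0x4141)) (Tr.leaf (nat_lit 0x3041))) (Tr.node (Tr.leaf (nat_lit 0xc741841)) (Tr.leaf (nat_lit 0))))) (Tr.node (Tr.node (Tr.node (Tr.leaf (nat_lit 0x41821)) (Tr.leaf (nat_lit 0x501))) (Tr.node (Tr.leaf (nat_lit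 0x7c041)) (Tr.leaf (nat_lit 0)))) (Tr.node (Tr.node (Tr.leaf (nat_lit 0x3a021)) (Tr.leaf (nat_lit 0x22041))) (Tr.node (Tr.leaf (nat_lit 0x81c41)) (Tr.leaf (nat_lit 0)))))) (Tr.node (Tr.node (Tr.node (Tr.node (Tr.leaf (nat_lit 0x619d01)) (Tr.leaf (nat_lit 0x1cf81c41))) (Tr.node (Tr.leaf (nat_lit 0x7a041)) (Tr.leaf (nat_lit 0)))) (Tr.node (Tr.node (Tr.leaf (nat_lit 0x32081)) (Tr.leaf (nat_lit 0x78501))) (Tr.node (Tr.leaf (nat_lit 0xe7c041)) (Tr.leaf (nat_lit 0))))) (Tr.node (Tr.node (Tr.node (Tr.leaf (nat_lit 0xc741821)) (Tr.leaf (nat_lit 0xcc1))) (Tr.node (Tr.leaf (nat_lit 0x63a021)) (Tr.leaf (nat_lit 0)))) (Tr.node (Tr.node (Tr.leaf (nat_lit 0x1861)) (Tr.leaf (nat_lit 0x83c21))) (Tr.node (Tr.leaf (nat_lit 0x1c70a0c1)) (Tr.leaf (nat_lit 0)))))))) (Tr.node (Tr.node (Tr.node (Tr.node (Tr.node (Tr.node (Tr.leaf (nat_lit 0x63a0c1))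 (Tr.leaf (nat_lit 0x1cf81c21))) (Tr.node (Tr.leaf (nat_lit 0x41841)) (Tr.leaf (nat_lit 0x81c21)))) (Tr.node (Tr.node (Tr.leaf (nat_lit 0x51d01)) (Tr.leaf (nat_lit 0x51021))) (Tr.node (Tr.leaf (nat_lit 0xe7c021)) (Tr.leaf (nat_lit 0))))) (Tr.node (Tr.node (Tr.node (Tr.leaf (nat_lit 0x61)) (Tr.leaf (nat_lit 0xc741881))) (Tr.node (Tr.leaf (nat_lit 0x83c41)) (Tr.leaf (nat_lit 0)))) (Tr.node (Tr.node (Tr.leaf (nat_lit 0xf32081)) (Tr.leaf (nat_lit 0x7c081))) (Tr.node (Tr.leaf (nat_lit 0x2941)) (Tr.leaf (nat_lit 0)))))) (Tr.node (Tr.node (Tr.node (Tr.node (Tr.leaf (nat_lit 0x431d01)) (Tr.leaf (nat_lit 0x2081))) (Tr.node (Tr.leaf (nat_lit 0x81821)) (Tr.leaf (nat_lit 0)))) (Tr.node (Tr.node (Tr.leaf (nat_lit 0x21)) (Tr.leaf (nat_lit 0xf81841))) (Tr.node (Tr.leaf (nat_lit 0xf81881)) (Tr.leaf (nat_lit 0))))) (Tr.node (Tr.node (Tr.node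 (Tr.leaf (nat_lit 0x1101)) (Tr.leaf (nat_lit 0x1841))) (Tr.node (Tr.leaf (nat_lit 0x81)) (Tr.leaf (nat_lit 0)))) (Tr.node (Tr.node (Tr.leaf (nat_lit 0x2881)) (Tr.leaf (nat_lit 0x38501))) (Tr.node (Tr.leaf (nat_lit 0x2141)) (Tr.leaf (nat_lit 0))))))) (Tr.node (Tr.node (Tr.node (Tr.node (Tr.node (Tr.leaf (nat_lit 0x101)) (Tr.leaf (nat_lit 0x3941))) (Tr.node (Tr.leaf (nat_lit 0x81841)) (Tr.leaf (nat_lit 0x39101)))) (Tr.node (Tr.node (Tr.leaf (nat_lit 0x31021)) (Tr.leaf (nat_lit 0x19c21))) (Tr.node (Tr.leaf (nat_lit 0x4a0c1)) (Tr.leaf (nat_lit 0))))) (Tr.node (Tr.node (Tr.node (Tr.leaf (nat_lit 0x1c741821)) (Tr.leaf (nat_lit 0xa0c1))) (Tr.node (Tr.leaf (nat_lit 0x60821)) (Tr.leaf (nat_lit 0)))) (Tr.node (Tr.node (Tr.leaf (nat_lit 0xe3a041)) (Tr.leaf (nat_lit 0x80821))) (Tr.node (Tr.leaf (nat_lit 0x32021)) (Tr.leaf (nat_lit 0))))))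 (Tr.node (Tr.node (Tr.node (Tr.node (Tr.leaf (nat_lit 0xf41821)) (Tr.leaf (nat_lit 0x3a501))) (Tr.node (Tr.leaf (nat_lit 0x181)) (Tr.leaf (nat_lit 0)))) (Tr.node (Tr.node (Tr.leaf (nat_lit 0x19d01)) (Tr.leaf (nat_lit 0x3a081))) (Tr.node (Tr.leaf (nat_lit 0xe7a041)) (Tr.leaf (nat_lit 0))))) (Tr.node (Tr.node (Tr.node (Tr.leaf (nat_lit 0x78901)) (Tr.leaf (nat_lit 0x63a081))) (Tr.node (Tr.leaf (nat_lit 0xe3a021)) (Tr.leaf (nat_lit 0)))) (Tr.node (Tr.node (Tr.leaf (nat_lit 0x1c61)) (Tr.leaf (nat_lit 0x7a081))) (Tr.node (Tr.leaf (nat_lit 0xe3a081)) (Tr.leaf (nat_lit 0))))))))) (Tr.node (Tr.node (Tr.node (Tr.node (Tr.node (Tr.node (Tr.node (Tr.leaf (nat_lit 0x20c1)) (Tr.leaf (nat_lit 0x74a0c1))) (Tr.node (Tr.leaf (nat_lit 0xc741c21)) (Tr.leaf (nat_lit 0x81c61)))) (Tr.node (Tr.node (Tr.leaf (nat_lit 0xe51d01)) (Tr.leaf (nat_lit 0x821)))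 (Tr.node (Tr.leaf (nat_lit 0x72081)) (Tr.leaf (nat_lit 0))))) (Tr.node (Tr.node (Tr.node (Tr.leaf (nat_lit 0x11d01)) (Tr.leaf (nat_lit 0x1cf81881))) (Tr.node (Tr.leaf (nat_lit 0x41c41)) (Tr.leaf (nat_lit 0)))) (Tr.node (Tr.node (Tr.leaf (nat_lit 0x3a901)) (Tr.leaf (nat_lit 0x1c741881))) (Tr.node (Tr.leaf (nat_lit 0xf81c21)) (Tr.leaf (nat_lit 0)))))) (Tr.node (Tr.node (Tr.node (Tr.node (Tr.leaf (nat_lit 0xf32021)) (Tr.leaf (nat_lit 0x3061))) (Tr.node (Tr.leaf (nat_lit 0x4061)) (Tr.leaf (nat_lit 0)))) (Tr.node (Tr.node (Tr.leaf (nat_lit 0xf80821)) (Tr.leaf (nat_lit 0xf32041))) (Tr.node (Tr.leaf (nat_lit 0x4c041)) (Tr.leaf (nat_lit 0))))) (Tr.node (Tr.node (Tr.node (Tr.leaf (nat_lit 0x7a061)) (Tr.leaf (nat_lit 0xc741c41))) (Tr.node (Tr.leaf (nat_lit 0x1cf0a0c1)) (Tr.leaf (nat_lit 0)))) (Tr.node (Tr.node (Tr.leaf (nat_lit 0x1cf41821))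 (Tr.leaf (nat_lit 0xf41881))) (Tr.node (Tr.leaf (nat_lit 0x2041)) (Tr.leaf (nat_lit 0))))))) (Tr.node (Tr.node (Tr.node (Tr.node (Tr.node (Tr.leaf (nat_lit 0x31d01)) (Tr.leaf (nat_lit 0x72041))) (Tr.node (Tr.leaf (nat_lit 0xe78501)) (Tr.leaf (nat_lit 0x41c21)))) (Tr.node (Tr.node (Tr.leaf (nat_lit 0x4041)) (Tr.leaf (nat_lit 0x3881))) (Tr.node (Tr.leaf (nat_lit 0x3c41)) (Tr.leaf (nat_lit 0))))) (Tr.node (Tr.node (Tr.node (Tr.leaf (nat_lit 0x1cf81821)) (Tr.leaf (nat_lit 0x1cf41881))) (Tr.node (Tr.leaf (nat_lit 0x52821)) (Tr.leaf (nat_lit 0)))) (Tr.node (Tr.node (Tr.leaf (nat_lit 0x1cf41c41)) (Tr.leaf (nat_lit 0xf0a0c1))) (Tr.node (Tr.leaf (nat_lit 0xe78901)) (Tr.leaf (nat_lit 0)))))) (Tr.node (Tr.node (Tr.node (Tr.node (Tr.leaf (nat_lit 0x3a041)) (Tr.leaf (nat_lit 0x3821))) (Tr.node (Tr.leaf (nat_lit 0x7a141)) (Tr.leaf (nat_lit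 0)))) (Tr.node (Tr.node (Tr.leaf (nat_lit 0x41881)) (Tr.leaf (nat_lit 0x2861))) (Tr.node (Tr.leaf (nat_lit 0xf41c41)) (Tr.leaf (nat_lit 0))))) (Tr.node (Tr.node (Tr.node (Tr.leaf (nat_lit 0xe11d01)) (Tr.leaf (nat_lit 0xe7a081))) (Tr.node (Tr.leaf (nat_lit 0xe7a021)) (Tr.leaf (nat_lit 0)))) (Tr.node (Tr.node (Tr.leaf (nat_lit 0x1c21)) (Tr.leaf (nat_lit 0x638501))) (Tr.node (Tr.leaf (nat_lit 0xe7c081)) (Tr.leaf (nat_lit 0)))))))) (Tr.node (Tr.node (Tr.node (Tr.node (Tr.node (Tr.node (Tr.leaf (nat_lit 0x1d01)) (Tr.leaf (nat_lit 0x141))) (Tr.node (Tr.leaf (nat_lit 0x1c741841)) (Tr.leaf (nat_lit 0x1cf81841)))) (Tr.node (Tr.node (Tr.leaf (nat_lit 0x38821)) (Tr.leaf (nat_lit 0x1c74a0c1))) (Tr.node (Tr.leaf (nat_lit 0x1821)) (Tr.leaf (nat_lit 0))))) (Tr.node (Tr.node (Tr.node (Tr.leaf (nat_lit 0xf41841)) (Tr.leaf (nat_lit 0xf81c41)))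 (Tr.node (Tr.leaf (nat_lit 0x421)) (Tr.leaf (nat_lit 0)))) (Tr.node (Tr.node (Tr.leaf (nat_lit 0x2821)) (Tr.leaf (nat_lit 0x40821))) (Tr.node (Tr.leaf (nat_lit 0x841)) (Tr.leaf (nat_lit 0)))))) (Tr.node (Tr.node (Tr.node (Tr.node (Tr.leaf (nat_lit 0xe38901)) (Tr.leaf (nat_lit 0x2181))) (Tr.node (Tr.leaf (nat_lit 0x72021)) (Tr.leaf (nat_lit 0)))) (Tr.node (Tr.node (Tr.leaf (nat_lit 0x741821)) (Tr.leaf (nat_lit 0x1881))) (Tr.node (Tr.leaf (nat_lit 0xf83c21)) (Tr.leaf (nat_lit 0))))) (Tr.node (Tr.node (Tr.node (Tr.leaf (nat_lit 0x1981)) (Tr.leaf (nat_lit 0x1081))) (Tr.node (Tr.leaf (nat_lit 0x7c021)) (Tr.leaf (nat_lit 0)))) (Tr.node (Tr.node (Tr.leaf (nat_lit 0x1c41)) (Tr.leaf (nat_lit 0xf4a0c1))) (Tr.node (Tr.leaf (nat_lit 0x1021)) (Tr.leaf (nat_lit 0))))))) (Tr.node (Tr.node (Tr.node (Tr.node (Tr.node (Tr.leaf (nat_lit 0x3a0c1))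 (Tr.leaf (nat_lit 0x3841))) (Tr.node (Tr.leaf (nat_lit 0x4021)) (Tr.leaf (nat_lit 0xc70a0c1)))) (Tr.node (Tr.node (Tr.leaf (nat_lit 0x78821)) (Tr.leaf (nat_lit 0x741841))) (Tr.node (Tr.leaf (nat_lit 0xf41c21)) (Tr.leaf (nat_lit 0))))) (Tr.node (Tr.node (Tr.node (Tr.leaf (nat_lit 0x63a041)) (Tr.leaf (nat_lit 0x3d41))) (Tr.node (Tr.leaf (nat_lit 0x1c741c21)) (Tr.leaf (nat_lit 0)))) (Tr.node (Tr.node (Tr.leaf (nat_lit 0xc61)) (Tr.leaf (nat_lit 0x62021))) (Tr.node (Tr.leaf (nat_lit 0x41021)) (Tr.leaf (nat_lit 0)))))) (Tr.node (Tr.node (Tr.node (Tr.node (Tr.leaf (nat_lit 0x740821)) (Tr.leaf (nat_lit 0x3c61))) (Tr.node (Tr.leaf (nat_lit 0x2021)) (Tr.leaf (nat_lit 0)))) (Tr.node (Tr.node (Tr.leaf (nat_lit 0x38901)) (Tr.leaf (nat_lit 0x43021))) (Tr.node (Tr.leaf (nat_lit 0xf83c41)) (Tr.leaf (nat_lit 0))))) (Tr.node (Tr.node (Tr.node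 (Tr.leaf (nat_lit 0x72901)) (Tr.leaf (nat_lit 0xe3a501))) (Tr.node (Tr.leaf (nat_lit 0x810c1)) (Tr.leaf (nat_lit 0)))) (Tr.node (Tr.node (Tr.leaf (nat_lit 0x3181)) (Tr.leaf (nat_lit 0x7a501))) (Tr.node (Tr.leaf (nat_lit 0x638901)) (Tr.leaf (nat_lit 0))))))))))

/-- The representative of an element. -/
noncomputable def rF (i : Nat) : Nat := (dw32 (eT.get i)).headD 0

/-- The word of an element in the generators of `K`. -/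
noncomputable def kF (i : Nat) : List Nat := (dw32 (eT.get i)).tail

/-- The word of an element. -/
noncomputable def yW (i : Nat) : List Nat :=
  invW invQ (kL (kF i)) ++ (cwx (repW.getD (rF i) []) ++ kL (kF i))

/-- The key of an element. -/
noncomputable def kyf (i : Nat) : Nat := ptQ.val (yW i) 1 * 4096 + ptQ.val (yW i) 12

theorem hlt : allN (fun i => andB (Nat.blt (rF i) 1) (ltB 16 (kF i))) 200 = true := by decide +kernel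

theorem o0 : allN (fun i => Nat.blt (kyf i) (kyf (i + 1))) 199 = true := by decide +kernel

theorem hmono (i : Nat) (hi : i < 199) : kyf i < kyf (i + 1) := by
  apply Nat.le_of_ble_eq_true
  change Nat.blt (kyf i) (kyf (i + 1)) = true
  exact allN_spec o0 i hi

end Cfsg.Agent.Lib.DCE.Ly.Inv3.Cls
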