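import Cfsg.Agent.Lib.DCE.Ly.Inv3.Defs

/-! The cosets of `K` fixed by the element of order three. -/

namespace Cfsg.Agent.Lib.DCE.Ly.Inv3.FixK

open Cfsg.Agent.Lib.TC.Core Cfsg.Agent.Lib.TC.Enc Cfsg.Agent.Lib.TC.Pres Cfsg.Agent.Lib.TC.Iso Cfsg.Agent.Lib.DCE.MatP
  Cfsg.Agent.Lib.DCE.Ly.Setup Cfsg.Agent.Lib.DCE.Ly.Rules Cfsg.Agent.Lib.DCE.Ly.Gens
  Cfsg.Agent.Lib.DCE.Ly.Inv.Defs Cfsg.Agent.Lib.DCE.Ly.Inv3.Defs

set_option maxRecDepth 100000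

/-- The fixed points of the element. -/
def fp : List Nat := [0,1,75,81,133,156,261,405,408,410,411,436,439,442,518,534,590,649,689,692,693,696,721,726,731,797,799,902,1096,1101,1137,1160,1170,1172,1175,1254,1279,1304,1492,1500,1527,1568,1723,1730,1827,1852,1895,1913,1986,2056,2090,2093,2094,2108,2124,2136,2203,2206,2222,2223,2226,2232,2384,2386,2387,2388,2389,2437,2449,2467,2469,2471,2478,2479,2484,2486,2546,2548,2557,2559,2590,2647,2698,2796,2805,2807,2808,2809,2862,2873,3021,3085,3129,3145,3154,3176,3198,3244,3246,3279,3348,3372,3373,3378,3382,3413,3476,3492,3496,3510,3558,3571,3573,3579,3598,3621,3711,3719,3748,3779,3789,3795,3811,3829,3832,3892]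

/-- The words of the fixed points. -/
def rpW : List (List Nat) := [[],[3],[3,2,6,2],[3,2,8,4],[3,7,0,4],[3,7,6,7],[3,2,1,2,6],[3,2,6,2,0],[3,2,6,2,3],[3,2,6,2,5],[3,2,6,2,8],[3,2,8,4,0],[3,2,8,4,5],[3,2,8,4,8],[3,4,2,0,4],[3,4,2,3,4],[3,4,5,3,4],[3,4,7,5,4],[3,7,0,4,0],[3,7,0,4,3],[3,7,0,4,5],[3,7,0,4,8],[3,7,1,5,4],[3,7,1,7,6],[3,7,4,0,4],[3,7,6,7,0],[3,7,6,7,5],[3,2,0,1,1,2],[3,2,0,8,2,4],[3,2,0,8,4,6],[3,2,1,1,5,4],[3,2,1,2,3,6],[3,2,1,2,6,0],[3,2,1,2,6,5],[3,2,1,2,6,8],[3,2,1,7,3,2],[3,2,1,7,8,7],[3,2,2,1,3,4],[3,2,4,3,0,2],[3,2,4,3,2,6],[3,2,4,5,4,2],[3,2,4,8,7,6],[3,2,6,2,3,0],[3,2,6,2,5,3],[3,2,8,4,5,3],[3,4,0,0,6,4],[3,4,0,3,2,4],[3,4,0,4,0,2],[3,4,1,2,1,4],[3,4,2,0,4,0],[3,4,2,3,4,0],[3,4,2,3,4,3],[3,4,2,3,4,5],[3,4,2,5,1,4],[3,4,2,8,4,2],[3,4,3,0,2,6],[3,4,5,2,0,4],[3,4,5,2,3,4],[3,4,5,3,4,3],[3,4,5,3,4,5],[3,4,5,3,4,8],[3,4,5,3,7,6],[3,4,7,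3,7,7],[3,4,7,5,4,0],[3,4,7,5,4,3],[3,4,7,5,4,5],[3,4,7,5,4,8],[3,7,0,1,1,7],[3,7,0,1,7,4],[3,7,0,4,0,0],[3,7,0,4,0,3],[3,7,0,4,0,8],[3,7,0,4,3,0],[3,7,0,4,3,3],[3,7,0,4,5,3],[3,7,0,4,5,5],[3,7,1,5,4,5],[3,7,1,5,4,8],[3,7,4,0,4,3],[3,7,4,0,4,8],[3,7,4,3,7,4],[3,7,5,7,4,1],[4,0,1,4,8,7],[3,2,0,1,0,2,2],[3,2,0,1,1,2,0],[3,2,0,1,1,2,3],[3,2,0,1,1,2,5],[3,2,0,1,1,2,8],[3,2,0,1,4,7,7],[3,2,0,1,8,4,2],[3,2,0,4,2,5,2],[3,2,0,6,5,4,2],[3,2,0,7,4,1,1],[3,2,0,7,4,7,7],[3,2,0,7,5,4,7],[3,2,0,7,7,6,4],[3,2,1,0,3,4,1],[3,2,1,1,5,4,0],[3,2,1,1,5,4,5],[3,2,1,2,6,5,3],[3,2,1,5,4,2,1],[3,2,1,7,3,2,3],[3,2,1,7,3,2,8],[3,2,1,7,5,2,6],[3,2,1,7,5,7,1],[3,2,2,1,3,4,0],[3,2,3,0,7,3,4],[3,2,3,4,0,2,4],[3,2,3,4,0,6,2],[3,2,3,4,3,4,7],[3,2,4,1,8,4,6],[3,2,4,3,2,8,7],[3,2,4,3,4,3,2],[3,2,4,3,4,8,7],[3,2,4,5,4,2,3],[3,2,4,8,2,1,7],[3,2,5,7,4,1,7],[3,2,5,7,8,7,4],[3,2,6,5,2,8,2],[3,4,0,0,6,4,3],[3,4,0,3,2,4,3],[3,4,0,4,0,2,0],[3,4,0,8,7,4,1],[3,4,2,3,4,0,3],[3,4,2,8,4,2,8],[3,7,5,4,7,7,1]]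

/-- The data of the cosets. -/
def rowT : List (List (Option (Nat × List Nat))) :=
  [[none,some (3,[5,6,7]),none,some (1,[5,5,6,7]),some (2,[5,5,6,5])],
   [none,some (3,[5,6,7]),none,some (1,[5,5,6,7]),some (2,[5,5,6,5])],
   [none,none,some (2,[5,5,6,5]),some (4,[5,7,6,5]),some (2,[5,5,7,6])],
   [some (1,[8,5,15,2]),some (3,[10,5,3,5,6]),none,none,some (3,[0,0,10,15,10,10])],
   [some (4,[0,7,3,6,5,7]),some (2,[2,7,13,8]),none,none,some (4,[7,5,14,3,13,10])],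
   [none,none,some (2,[5,5,6,5]),some (4,[5,7,6,5]),some (2,[5,5,7,6])],
   [none,some (3,[5,6,7]),none,some (1,[5,5,6,7]),some (2,[5,5,6,5])],
   [none,none,some (4,[6,5,15,14]),some (3,[15]),some (1,[5,5,5,6])],
   [none,none,some (2,[5,5,6,5]),some (4,[5,7,6,5]),some (2,[5,5,7,6])],
   [none,none,some (4,[6,5,15,14]),some (3,[15]),some (1,[5,5,5,6])],
   [none,none,some (2,[5,5,6,5]),some (4,[5,7,6,5]),some (2,[5,5,7,6])],
   [some (4,[8,7,11,6,5,7]),some (2,[10,7,13,0]),none,none,some (4,[7,5,14,11,13,2])],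
   [some (4,[8,7,11,6,5,7]),some (2,[10,7,13,0]),none,none,some (4,[7,5,14,11,13,2])],
   [some (1,[8,5,15,2]),some (3,[10,5,3,5,6]),none,none,some (3,[0,0,10,15,10,10])],
   [none,none,some (2,[6,5,1,7,3,7]),some (4,[7,5,14,10,13,0]),some (2,[11,13,2,7,5,14])],
   [none,none,some (4,[8,14,10,5,7,14]),some (3,[0,10,11,15]),some (1,[11,5,5,5,6,0])],
   [none,some (1,[5,5,6,7]),none,some (3,[5,6,7]),some (4,[6,5,15,14])],
   [some (2,[10,7,2,13,10]),none,some (4,[6,15,8,14,3,5]),some (2,[0,5,10,0,5,6,5]),none],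
   [some (1,[0,5,15,10]),some (3,[2,5,11,5,6]),none,none,some (3,[0,0,15,8,8,3])],
   [some (4,[0,7,3,6,5,7]),some (2,[2,7,13,8]),none,none,some (4,[7,5,14,3,13,10])],
   [some (1,[0,5,15,10]),some (3,[2,5,11,5,6]),none,none,some (3,[0,0,15,8,8,3])],
   [some (4,[0,7,3,6,5,7]),some (2,[2,7,13,8]),none,none,some (4,[7,5,14,3,13,10])],
   [some (1,[6,8,5,15,2,13]),some (1,[5,10,5,3,5,6]),none,some (2,[3,5,4,11,5,7,6]),none],
   [none,some (3,[5,6,7]),none,some (1,[5,5,6,7]),some (2,[5,5,6,5])],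
   [some (2,[10,7,13,0]),none,some (4,[8,7,11,6,5,7]),some (2,[6,11,6,11,6,5]),none],
   [none,none,some (4,[6,5,15,14]),some (3,[15]),some (1,[5,5,5,6])],
   [none,none,some (4,[6,5,15,14]),some (3,[15]),some (1,[5,5,5,6])],
   [some (2,[7,13]),none,some (4,[6,7,14,13]),some (2,[5,5,6,5]),none],
   [some (4,[0,11,5,7,6,11,5]),none,none,some (2,[10,15,2,5,1]),some (2,[8,11,7,11,13])],
   [none,some (3,[0,2,2,15,10]),some (3,[2,5,2,5,9,6]),none,some (1,[5,9,15,10,10])],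
   [some (2,[6,0,7,13,11,15]),none,some (2,[7,3,7,2,7,6]),none,some (3,[3,5,10,9,6,7])],
   [none,some (3,[5,6,7]),none,some (1,[5,5,6,7]),some (2,[5,5,6,5])],
   [none,some (1,[5,5,6,7]),none,some (3,[5,6,7]),some (4,[6,5,15,14])],
   [none,some (1,[5,5,6,7]),none,some (3,[5,6,7]),some (4,[6,5,15,14])],
   [none,some (3,[5,6,7]),none,some (1,[5,5,6,7]),some (2,[5,5,6,5])],
   [some (2,[6,11,6,11,6,5]),none,some (2,[5,10,7,13,0,14]),none,some (3,[5,1,6,10,7,0])],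
   [some (2,[6,11,6,11,6,5]),none,some (2,[5,10,7,13,0,14]),none,some (3,[5,1,6,10,7,0])],
   [some (3,[8,5,6,10,7,3]),some (2,[2,5,5,1,7,6]),none,some (1,[0,5,6,5,1,10,5]),none],
   [some (3,[0,5,6,11,10,7,11]),some (2,[5,5,1,7,3,6]),none,some (1,[0,6,5,10,0,6,5]),none],
   [some (1,[0,5,6,5,1,10,5]),some (4,[2,6,5,15,2,9,14]),some (1,[1,6,5,15,3,13,8]),none,none],
   [none,some (1,[5,1,15,2,2]),some (3,[0,3,15,3,2]),some (4,[6,7,2,14,10,13]),none],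
   [some (1,[0,5,6,5,1,10,5]),some (4,[2,6,5,15,2,9,14]),some (1,[1,6,5,15,3,13,8]),none,none],
   [none,none,some (4,[6,5,15,14]),some (3,[15]),some (1,[5,5,5,6])],
   [none,none,some (4,[6,5,15,14]),some (3,[15]),some (1,[5,5,5,6])],
   [some (4,[8,7,11,6,5,7]),some (2,[10,7,13,0]),none,none,some (4,[7,5,14,11,13,2])],
   [some (3,[15]),none,none,some (3,[5,5,6]),some (3,[5,5,6])],
   [some (2,[6,0,7,13,11,15]),none,some (2,[7,3,7,2,7,6]),none,some (3,[3,5,10,9,6,7])],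
   [none,none,some (4,[2,1,6,7,5,2,6]),some (3,[1,0,0,10,15]),some (1,[6,11,5,6,5,1])],
   [some (2,[5,5,7,6]),some (2,[5,5,6,5]),some (3,[5,6,7]),none,none],
   [none,none,some (4,[8,14,10,5,7,14]),some (3,[0,10,11,15]),some (1,[11,5,5,5,6,0])],
   [none,none,some (2,[6,5,1,7,3,7]),some (4,[7,5,14,10,13,0]),some (2,[11,13,2,7,5,14])],
   [none,none,some (4,[8,14,10,5,7,14]),some (3,[0,10,11,15]),some (1,[11,5,5,5,6,0])],
   [none,none,some (2,[6,5,1,7,3,7]),some (4,[7,5,14,10,13,0]),some (2,[11,13,2,7,5,14])],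
   [some (2,[0,3,7,3,13]),none,some (4,[0,0,15,3,6,7,13]),some (2,[6,5,7,3,7,2]),none],
   [some (1,[6,3,5,5,7,9]),some (1,[1,5,5,10,5,6]),none,some (2,[0,10,14,15,14,2,15]),none],
   [some (2,[6,5,7,3,7,2]),none,some (2,[10,5,5,7,6,0]),none,some (3,[0,5,6,2,7,11])],
   [some (2,[0,15,14,2,14,9,14]),some (2,[13,13,10,14,9,13]),some (3,[1,5,3,6,9,7]),none,none],
   [some (1,[5,1,6,2,5,5]),some (4,[0,6,13,0,7,14,1]),some (1,[0,13,8,13,14,9,15]),none,none],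
   [none,some (1,[5,5,6,7]),none,some (3,[5,6,7]),some (4,[6,5,15,14])],
   [none,some (3,[5,6,7]),none,some (1,[5,5,6,7]),some (2,[5,5,6,5])],
   [none,some (1,[5,5,6,7]),none,some (3,[5,6,7]),some (4,[6,5,15,14])],
   [some (2,[6,5,7,3,7,2]),none,some (2,[10,5,5,7,6,0]),none,some (3,[0,5,6,2,7,11])],
   [some (1,[6,7,5,2,5,11]),some (1,[3,5,5,5,6,8]),none,some (2,[6,7,9,6,7,3]),none],
   [some (3,[0,5,5,6,9,10]),none,some (1,[2,5,10,15,2]),some (4,[1,11,6,1,5,15,14]),none],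
   [some (2,[10,7,2,13,10]),none,some (4,[6,15,8,14,3,5]),some (2,[0,5,10,0,5,6,5]),none],
   [some (3,[0,5,5,6,9,10]),none,some (1,[2,5,10,15,2]),some (4,[1,11,6,1,5,15,14]),none],
   [some (2,[10,7,2,13,10]),none,some (4,[6,15,8,14,3,5]),some (2,[0,5,10,0,5,6,5]),none],
   [some (2,[7,13]),none,some (4,[6,7,14,13]),some (2,[5,5,6,5]),none],
   [none,some (1,[0,11,11,13,11,7]),some (3,[2,1,1,15,9]),some (4,[15,14,10,13,0,15]),none],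
   [some (4,[0,7,3,6,5,7]),some (2,[2,7,13,8]),none,none,some (4,[7,5,14,3,13,10])],
   [some (1,[0,5,15,10]),some (3,[2,5,11,5,6]),none,none,some (3,[0,0,15,8,8,3])],
   [some (1,[0,5,15,10]),some (3,[2,5,11,5,6]),none,none,some (3,[0,0,15,8,8,3])],
   [some (1,[0,5,15,10]),some (3,[2,5,11,5,6]),none,none,some (3,[0,0,15,8,8,3])],
   [some (4,[0,7,3,6,5,7]),some (2,[2,7,13,8]),none,none,some (4,[7,5,14,3,13,10])],
   [some (1,[0,5,15,10]),some (3,[2,5,11,5,6]),none,none,some (3,[0,0,15,8,8,3])],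
   [some (4,[0,7,3,6,5,7]),some (2,[2,7,13,8]),none,none,some (4,[7,5,14,3,13,10])],
   [some (3,[5,1,6,10,7,0]),some (2,[5,10,7,13,0,14]),none,some (1,[0,7,3,5,15,14,1]),none],
   [some (1,[6,8,5,15,2,13]),some (1,[5,10,5,3,5,6]),none,some (2,[3,5,4,11,5,7,6]),none],
   [some (2,[10,7,13,0]),none,some (4,[8,7,11,6,5,7]),some (2,[6,11,6,11,6,5]),none],
   [some (2,[10,7,13,0]),none,some (4,[8,7,11,6,5,7]),some (2,[6,11,6,11,6,5]),none],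
   [some (4,[0,7,6,0,11,5,7]),some (2,[0,10,10,15,2,5]),none,none,some (4,[0,5,7,11,6,2,5])],
   [none,some (3,[5,2,6,3,4,7]),none,some (1,[0,11,7,10,6,7,6]),some (2,[6,3,6,3,6,5])],
   [some (2,[6,8,7,13,3,15]),none,some (2,[7,11,7,10,7,6]),none,some (3,[0,5,6,2,0,7])],
   [some (3,[5,6,7]),some (2,[5,5,7,6]),none,some (1,[5,5,5,6]),none],
   [some (3,[5,5,6]),none,some (1,[5,15]),some (4,[6,5,15,14]),none],
   [some (2,[7,13]),none,some (4,[6,7,14,13]),some (2,[5,5,6,5]),none],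
   [some (3,[5,5,6]),none,some (1,[5,15]),some (4,[6,5,15,14]),none],
   [some (2,[7,13]),none,some (4,[6,7,14,13]),some (2,[5,5,6,5]),none],
   [none,some (4,[0,7,6,0,11,5,7]),some (4,[0,5,7,11,6,2,5]),some (1,[5,2,3,8,15]),none],
   [none,some (1,[5,1,15,2,2]),some (3,[0,3,15,3,2]),some (4,[6,7,2,14,10,13]),none],
   [none,some (1,[0,5,15,0,1,1]),some (3,[10,9,9,15,1]),some (4,[15,14,2,13,8,15]),none],
   [none,some (4,[6,15,2,14,10,5]),some (4,[7,6,13,10,14,9]),some (1,[5,1,15,2,2]),none],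
   [none,some (4,[0,7,6,0,11,5,7]),some (4,[0,5,7,11,6,2,5]),some (1,[5,2,3,8,15]),none],
   [some (1,[8,5,15,2]),some (3,[10,5,3,5,6]),none,none,some (3,[0,0,10,15,10,10])],
   [some (1,[0,5,5,5,6,10]),some (4,[2,6,5,15,14,11]),some (1,[3,5,5,6,7,8]),none,none],
   [none,none,some (4,[1,11,6,1,5,15,14]),some (3,[9,15,10,10]),some (1,[0,7,3,5,15,14,1])],
   [some (2,[10,5,5,7,6,0]),some (2,[6,5,7,3,7,2]),some (3,[0,5,6,2,7,11]),none,none],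
   [some (4,[6,0,5,10,15,14]),none,some (1,[7,3,5,15,8,14]),none,some (1,[6,2,6,10,6,7])],
   [some (4,[6,0,5,10,15,14]),none,some (1,[7,3,5,15,8,14]),none,some (1,[6,2,6,10,6,7])],
   [none,some (1,[5,5,6,7]),none,some (3,[5,6,7]),some (4,[6,5,15,14])],
   [none,some (3,[1,11,8,15,10]),some (3,[9,6,10,5,5]),none,some (1,[3,5,3,15,3])],
   [some (2,[6,11,6,11,6,5]),none,some (2,[5,10,7,13,0,14]),none,some (3,[5,1,6,10,7,0])],
   [some (2,[6,11,6,11,6,5]),none,some (2,[5,10,7,13,0,14]),none,some (3,[5,1,6,10,7,0])],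
   [some (4,[5,7,6,5]),none,none,some (2,[7,13]),some (2,[7,13])],
   [some (1,[5,5,5,6]),some (4,[6,5,15,14]),some (1,[5,5,6,7]),none,none],
   [some (1,[0,5,5,6,7,10]),some (1,[2,15,3,5,7,14]),none,some (2,[0,5,11,5,7,6,9]),none],
   [some (3,[15]),none,none,some (3,[5,5,6]),some (3,[5,5,6])],
   [none,some (3,[1,5,3,6,9,7]),none,some (1,[6,7,5,8,5,2]),some (2,[13,13,10,14,9,13])],
   [some (3,[5,2,6,3,4,7]),some (2,[5,2,7,13,8,14]),none,some (1,[0,5,6,5,8,5,8]),none],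
   [some (3,[1,15,2,2]),none,none,some (3,[1,6,7,2,7,11]),some (3,[2,5,8,5,6,1])],
   [none,none,some (4,[3,14,3,5,7,14]),some (3,[0,0,15,8,8,3]),some (1,[5,7,1,7,10,6])],
   [some (4,[2,6,13,0,7,14,12]),none,some (1,[0,6,5,10,0,6,5]),none,some (1,[1,3,7,6,3,7,6])],
   [some (3,[1,4,15,3]),none,none,some (3,[10,5,3,5,6]),some (3,[0,11,6,1,5,5])],
   [some (3,[1,4,15,3]),none,none,some (3,[10,5,3,5,6]),some (3,[0,11,6,1,5,5])],
   [none,some (1,[5,1,15,2,2]),some (3,[0,3,15,3,2]),some (4,[6,7,2,14,10,13]),none],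
   [none,some (1,[6,3,5,5,7,9]),none,some (3,[5,6,7,9,9,2]),some (4,[6,2,5,11,15,14])],
   [none,some (1,[6,8,5,15,2,13]),none,some (3,[1,5,3,6,9,7]),some (4,[6,5,3,15,0,14])],
   [some (3,[3,5,9,8,5,6]),none,some (1,[0,9,13,10,7]),some (4,[6,0,5,10,15,14]),none],
   [none,some (3,[0,15,2,8]),some (3,[1,5,5,2,0,6]),none,some (1,[10,5,2,15,10])],
   [some (3,[15]),none,none,some (3,[5,5,6]),some (3,[5,5,6])],
   [some (2,[6,0,7,13,11,15]),none,some (2,[7,3,7,2,7,6]),none,some (3,[3,5,10,9,6,7])],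
   [none,none,some (2,[9,13,14,13,3,14]),some (4,[7,2,6,0,13,14]),some (2,[0,6,7,6,0,7,8])],
   [some (1,[0,11,7,10,6,7,6]),some (1,[5,9,6,10,5,5]),none,some (2,[11,13,2,7,5,14]),none],
   [none,none,some (2,[6,5,1,7,3,7]),some (4,[7,5,14,10,13,0]),some (2,[11,13,2,7,5,14])],
   [some (1,[6,3,5,5,7,9]),some (1,[1,5,5,10,5,6]),none,some (2,[0,10,14,15,14,2,15]),none],
   [some (4,[3,14,3,5,7,14]),none,some (1,[5,7,1,7,10,6]),none,some (1,[7,11,7,6,9,7])]]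

/-- The flagged cosets. -/
def flagged : List (Nat × Nat) := [(0,0),(0,2),(1,0),(1,2),(2,0),(2,1),(3,2),(3,3),(4,2),(4,3),(5,0),(5,1),(6,0),(6,2),(7,0),(7,1),(8,0),(8,1),(9,0),(9,1),(10,0),(10,1),(11,2),(11,3),(12,2),(12,3),(13,2),(13,3),(14,0),(14,1),(15,0),(15,1),(16,0),(16,2),(17,1),(17,4),(18,2),(18,3),(19,2),(19,3),(20,2),(20,3),(21,2),(21,3),(22,2),(22,4),(23,0),(23,2),(24,1),(24,4),(25,0),(25,1),(26,0),(26,1),(27,1),(27,4),(28,1),(28,2),(29,0),(29,3),(30,1),(30,3),(31,0),(31,2),(32,0),(32,2),(33,0),(33,2),(34,0),(34,2),(35,1),(35,3),(36,1),(36,3),(37,2),(37,4),(38,2),(38,4),(39,3),(39,4),(40,0),(40,4),(41,3),(41,4),(42,0),(42,1),(43,0),(43,1),(44,2),(44,3),(45,1),(45,2),(46,1),(46,3),(47,0),(47,1),(48,3),(48,4),(49,0),(49,1),(50,0),(50,1),(51,0),(51,1),(52,0),(52,1),(53,1),(53,4),(54,2),(54,4),(55,1),(55,3),(56,3),(56,4),(57,3),(57,4),(58,0),(58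,2),(59,0),(59,2),(60,0),(60,2),(61,1),(61,3),(62,2),(62,4),(63,1),(63,4),(64,1),(64,4),(65,1),(65,4),(66,1),(66,4),(67,1),(67,4),(68,0),(68,4),(69,2),(69,3),(70,2),(70,3),(71,2),(71,3),(72,2),(72,3),(73,2),(73,3),(74,2),(74,3),(75,2),(75,3),(76,2),(76,4),(77,2),(77,4),(78,1),(78,4),(79,1),(79,4),(80,2),(80,3),(81,0),(81,2),(82,1),(82,3),(83,2),(83,4),(84,1),(84,4),(85,1),(85,4),(86,1),(86,4),(87,1),(87,4),(88,0),(88,4),(89,0),(89,4),(90,0),(90,4),(91,0),(91,4),(92,0),(92,4),(93,2),(93,3),(94,3),(94,4),(95,0),(95,1),(96,3),(96,4),(97,1),(97,3),(98,1),(98,3),(99,0),(99,2),(100,0),(100,3),(101,1),(101,3),(102,1),(102,3),(103,1),(103,2),(104,3),(104,4),(105,2),(105,4),(106,1),(106,2),(107,0),(107,2),(108,2),(108,4),(109,1),(109,2),(110,0),(110,1),(111,1),(111,3),(112,1),(112,2),(113,1),(113,2),(114,0),(114,4),(115,0),(115,2),(116,0),(116,2),(117,1),(117,4),(118,0),(118,3),(119,1),(119,2),(120,1),(120,3),(121,0),(121,1),(122,2),(122,4),(123,0),(123,1),(124,2),(124,4),(125,1),(125,3)]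

theorem hfp : allN (fun p => cond (Nat.beq (ptQ.val x3w p) p) (fp.contains p) true) 3906 = true := by decide +kernel

theorem hfp_lt : ∀ f, f < 126 → andB (Nat.beq (ptQ.val (rpW.getD f []) 0) (fp.getD f 0)) (lt10 (rpW.getD f [])) = true := by decide +kernel

theorem hrow : ∀ f, f < 126 → ∀ i, i < 5 → chkRowX (rpW.getD f []) i ((rowT.getD f []).getD i none) flagged f = true := by decide +kernel

theorem hflagged : flagged.length = 252 := by decide +kernel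

end Cfsg.Agent.Lib.DCE.Ly.Inv3.FixK
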