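import Cfsg.Agent.Lib.DCE.Ly.Inv3.XiC
import Cfsg.Agent.Lib.DCE.Ly.Inv3.XiG
import Cfsg.Agent.Lib.DCE.MatV

/-! The action of the generators on the vectors. -/

namespace Cfsg.Agent.Lib.DCE.Ly.Inv3.XiP1

open Cfsg.Agent.Lib.TC.Core Cfsg.Agent.Lib.TC.Enc Cfsg.Agent.Lib.DCE.MatP Cfsg.Agent.Lib.DCE Cfsg.Agent.Lib.DCE.Ly.Inv3.XiC Cfsg.Agent.Lib.DCE.Ly.Inv3.XiG

set_option maxRecDepth 100000

theorem h1800 : allN (fun i => chkPoint 5 111 Gs 4 vs pi 7128 (i + 1800)) 100 = true := by decide +kernel

theorem x1800 : allN (fun i => Nat.beq (rowMul 5 111 (vs (i + 1800)) G_X) (vs (i + 1800))) 100 = true := by decide +kernel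

theorem h1900 : allN (fun i => chkPoint 5 111 Gs 4 vs pi 7128 (i + 1900)) 100 = true := by decide +kernel

theorem x1900 : allN (fun i => Nat.beq (rowMul 5 111 (vs (i + 1900)) G_X) (vs (i + 1900))) 100 = true := by decide +kernel

theorem h2000 : allN (fun i => chkPoint 5 111 Gs 4 vs pi 7128 (i + 2000)) 100 = true := by decide +kernel

theorem x2000 : allN (fun i => Nat.beq (rowMul 5 111 (vs (i + 2000)) G_X) (vs (i + 2000))) 100 = true := by decide +kernel

theorem h2100 : allN (fun i => chkPoint 5 111 Gs 4 vs pi 7128 (i + 2100)) 100 = true := by decide +kernel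

theorem x2100 : allN (fun i => Nat.beq (rowMul 5 111 (vs (i + 2100)) G_X) (vs (i + 2100))) 100 = true := by decide +kernel

theorem h2200 : allN (fun i => chkPoint 5 111 Gs 4 vs pi 7128 (i + 2200)) 100 = true := by decide +kernel

theorem x2200 : allN (fun i => Nat.beq (rowMul 5 111 (vs (i + 2200)) G_X) (vs (i + 2200))) 100 = true := by decide +kernel

theorem h2300 : allN (fun i => chkPoint 5 111 Gs 4 vs pi 7128 (i + 2300)) 100 = true := by decide +kernel

theorem x2300 : allN (fun i => Nat.beq (rowMul 5 111 (vs (i + 2300)) G_X) (vs (i + 2300))) 100 = true := by decide +kernel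

theorem h2400 : allN (fun i => chkPoint 5 111 Gs 4 vs pi 7128 (i + 2400)) 100 = true := by decide +kernel

theorem x2400 : allN (fun i => Nat.beq (rowMul 5 111 (vs (i + 2400)) G_X) (vs (i + 2400))) 100 = true := by decide +kernel

theorem h2500 : allN (fun i => chkPoint 5 111 Gs 4 vs pi 7128 (i + 2500)) 100 = true := by decide +kernel

theorem x2500 : allN (fun i => Nat.beq (rowMul 5 111 (vs (i + 2500)) G_X) (vs (i + 2500))) 100 = true := by decide +kernel

theorem h2600 : allN (fun i => chkPoint 5 111 Gs 4 vs pi 7128 (i + 2600)) 100 = true := by decide +kernel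

theorem x2600 : allN (fun i => Nat.beq (rowMul 5 111 (vs (i + 2600)) G_X) (vs (i + 2600))) 100 = true := by decide +kernel

theorem h2700 : allN (fun i => chkPoint 5 111 Gs 4 vs pi 7128 (i + 2700)) 100 = true := by decide +kernel

theorem x2700 : allN (fun i => Nat.beq (rowMul 5 111 (vs (i + 2700)) G_X) (vs (i + 2700))) 100 = true := by decide +kernel

theorem h2800 : allN (fun i => chkPoint 5 111 Gs 4 vs pi 7128 (i + 2800)) 100 = true := by decide +kernel

theorem x2800 : allN (fun i => Nat.beq (rowMul 5 111 (vs (i + 2800)) G_X) (vs (i + 2800))) 100 = true := by decide +kernel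

theorem h2900 : allN (fun i => chkPoint 5 111 Gs 4 vs pi 7128 (i + 2900)) 100 = true := by decide +kernel

theorem x2900 : allN (fun i => Nat.beq (rowMul 5 111 (vs (i + 2900)) G_X) (vs (i + 2900))) 100 = true := by decide +kernel

theorem h3000 : allN (fun i => chkPoint 5 111 Gs 4 vs pi 7128 (i + 3000)) 100 = true := by decide +kernel

theorem x3000 : allN (fun i => Nat.beq (rowMul 5 111 (vs (i + 3000)) G_X) (vs (i + 3000))) 100 = true := by decide +kernel

theorem h3100 : allN (fun i => chkPoint 5 111 Gs 4 vs pi 7128 (i + 3100)) 100 = true := by decide +kernel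

theorem x3100 : allN (fun i => Nat.beq (rowMul 5 111 (vs (i + 3100)) G_X) (vs (i + 3100))) 100 = true := by decide +kernel

theorem h3200 : allN (fun i => chkPoint 5 111 Gs 4 vs pi 7128 (i + 3200)) 100 = true := by decide +kernel

theorem x3200 : allN (fun i => Nat.beq (rowMul 5 111 (vs (i + 3200)) G_X) (vs (i + 3200))) 100 = true := by decide +kernel

theorem h3300 : allN (fun i => chkPoint 5 111 Gs 4 vs pi 7128 (i + 3300)) 100 = true := by decide +kernel

theorem x3300 : allN (fun i => Nat.beq (rowMul 5 111 (vs (i + 3300)) G_X) (vs (i + 3300))) 100 = true := by decide +kernel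

theorem h3400 : allN (fun i => chkPoint 5 111 Gs 4 vs pi 7128 (i + 3400)) 100 = true := by decide +kernel

theorem x3400 : allN (fun i => Nat.beq (rowMul 5 111 (vs (i + 3400)) G_X) (vs (i + 3400))) 100 = true := by decide +kernel

theorem h3500 : allN (fun i => chkPoint 5 111 Gs 4 vs pi 7128 (i + 3500)) 100 = true := by decide +kernel

theorem x3500 : allN (fun i => Nat.beq (rowMul 5 111 (vs (i + 3500)) G_X) (vs (i + 3500))) 100 = true := by decide +kernel

end Cfsg.Agent.Lib.DCE.Ly.Inv3.XiP1
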