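import Cfsg.Agent.Lib.DCE.Ly.Inv3.XiC
import Cfsg.Agent.Lib.DCE.Ly.Inv3.XiG
import Cfsg.Agent.Lib.DCE.MatV

/-! The action of the generators on the vectors. -/

namespace Cfsg.Agent.Lib.DCE.Ly.Inv3.XiP2

open Cfsg.Agent.Lib.TC.Core Cfsg.Agent.Lib.TC.Enc Cfsg.Agent.Lib.DCE.MatP Cfsg.Agent.Lib.DCE Cfsg.Agent.Lib.DCE.Ly.Inv3.XiC Cfsg.Agent.Lib.DCE.Ly.Inv3.XiG

set_option maxRecDepth 100000

theorem h3600 : allN (fun i => chkPoint 5 111 Gs 4 vs pi 7128 (i + 3600)) 100 = true := by decide +kernel

theorem x3600 : allN (fun i => Nat.beq (rowMul 5 111 (vs (i + 3600)) G_X) (vs (i + 3600))) 100 = true := by decide +kernel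

theorem h3700 : allN (fun i => chkPoint 5 111 Gs 4 vs pi 7128 (i + 3700)) 100 = true := by decide +kernel

theorem x3700 : allN (fun i => Nat.beq (rowMul 5 111 (vs (i + 3700)) G_X) (vs (i + 3700))) 100 = true := by decide +kernel

theorem h3800 : allN (fun i => chkPoint 5 111 Gs 4 vs pi 7128 (i + 3800)) 100 = true := by decide +kernel

theorem x3800 : allN (fun i => Nat.beq (rowMul 5 111 (vs (i + 3800)) G_X) (vs (i + 3800))) 100 = true := by decide +kernel

theorem h3900 : allN (fun i => chkPoint 5 111 Gs 4 vs pi 7128 (i + 3900)) 100 = true := by decide +kernel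

theorem x3900 : allN (fun i => Nat.beq (rowMul 5 111 (vs (i + 3900)) G_X) (vs (i + 3900))) 100 = true := by decide +kernel

theorem h4000 : allN (fun i => chkPoint 5 111 Gs 4 vs pi 7128 (i + 4000)) 100 = true := by decide +kernel

theorem x4000 : allN (fun i => Nat.beq (rowMul 5 111 (vs (i + 4000)) G_X) (vs (i + 4000))) 100 = true := by decide +kernel

theorem h4100 : allN (fun i => chkPoint 5 111 Gs 4 vs pi 7128 (i + 4100)) 100 = true := by decide +kernel

theorem x4100 : allN (fun i => Nat.beq (rowMul 5 111 (vs (i + 4100)) G_X) (vs (i + 4100))) 100 = true := by decide +kernel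

theorem h4200 : allN (fun i => chkPoint 5 111 Gs 4 vs pi 7128 (i + 4200)) 100 = true := by decide +kernel

theorem x4200 : allN (fun i => Nat.beq (rowMul 5 111 (vs (i + 4200)) G_X) (vs (i + 4200))) 100 = true := by decide +kernel

theorem h4300 : allN (fun i => chkPoint 5 111 Gs 4 vs pi 7128 (i + 4300)) 100 = true := by decide +kernel

theorem x4300 : allN (fun i => Nat.beq (rowMul 5 111 (vs (i + 4300)) G_X) (vs (i + 4300))) 100 = true := by decide +kernel

theorem h4400 : allN (fun i => chkPoint 5 111 Gs 4 vs pi 7128 (i + 4400)) 100 = true := by decide +kernel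

theorem x4400 : allN (fun i => Nat.beq (rowMul 5 111 (vs (i + 4400)) G_X) (vs (i + 4400))) 100 = true := by decide +kernel

theorem h4500 : allN (fun i => chkPoint 5 111 Gs 4 vs pi 7128 (i + 4500)) 100 = true := by decide +kernel

theorem x4500 : allN (fun i => Nat.beq (rowMul 5 111 (vs (i + 4500)) G_X) (vs (i + 4500))) 100 = true := by decide +kernel

theorem h4600 : allN (fun i => chkPoint 5 111 Gs 4 vs pi 7128 (i + 4600)) 100 = true := by decide +kernel

theorem x4600 : allN (fun i => Nat.beq (rowMul 5 111 (vs (i + 4600)) G_X) (vs (i + 4600))) 100 = true := by decide +kernel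

theorem h4700 : allN (fun i => chkPoint 5 111 Gs 4 vs pi 7128 (i + 4700)) 100 = true := by decide +kernel

theorem x4700 : allN (fun i => Nat.beq (rowMul 5 111 (vs (i + 4700)) G_X) (vs (i + 4700))) 100 = true := by decide +kernel

theorem h4800 : allN (fun i => chkPoint 5 111 Gs 4 vs pi 7128 (i + 4800)) 100 = true := by decide +kernel

theorem x4800 : allN (fun i => Nat.beq (rowMul 5 111 (vs (i + 4800)) G_X) (vs (i + 4800))) 100 = true := by decide +kernel

theorem h4900 : allN (fun i => chkPoint 5 111 Gs 4 vs pi 7128 (i + 4900)) 100 = true := by decide +kernel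

theorem x4900 : allN (fun i => Nat.beq (rowMul 5 111 (vs (i + 4900)) G_X) (vs (i + 4900))) 100 = true := by decide +kernel

theorem h5000 : allN (fun i => chkPoint 5 111 Gs 4 vs pi 7128 (i + 5000)) 100 = true := by decide +kernel

theorem x5000 : allN (fun i => Nat.beq (rowMul 5 111 (vs (i + 5000)) G_X) (vs (i + 5000))) 100 = true := by decide +kernel

theorem h5100 : allN (fun i => chkPoint 5 111 Gs 4 vs pi 7128 (i + 5100)) 100 = true := by decide +kernel

theorem x5100 : allN (fun i => Nat.beq (rowMul 5 111 (vs (i + 5100)) G_X) (vs (i + 5100))) 100 = true := by decide +kernel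

theorem h5200 : allN (fun i => chkPoint 5 111 Gs 4 vs pi 7128 (i + 5200)) 100 = true := by decide +kernel

theorem x5200 : allN (fun i => Nat.beq (rowMul 5 111 (vs (i + 5200)) G_X) (vs (i + 5200))) 100 = true := by decide +kernel

theorem h5300 : allN (fun i => chkPoint 5 111 Gs 4 vs pi 7128 (i + 5300)) 100 = true := by decide +kernel

theorem x5300 : allN (fun i => Nat.beq (rowMul 5 111 (vs (i + 5300)) G_X) (vs (i + 5300))) 100 = true := by decide +kernel

end Cfsg.Agent.Lib.DCE.Ly.Inv3.XiP2
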