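import Cfsg.Agent.Lib.DCE.Ly.Inv3.XiC
import Cfsg.Agent.Lib.DCE.Ly.Inv3.XiG
import Cfsg.Agent.Lib.DCE.MatV

/-! The action of the generators on the vectors. -/

namespace Cfsg.Agent.Lib.DCE.Ly.Inv3.XiP3

open Cfsg.Agent.Lib.TC.Core Cfsg.Agent.Lib.TC.Enc Cfsg.Agent.Lib.DCE.MatP Cfsg.Agent.Lib.DCE Cfsg.Agent.Lib.DCE.Ly.Inv3.XiC Cfsg.Agent.Lib.DCE.Ly.Inv3.XiG

set_option maxRecDepth 100000

theorem h5400 : allN (fun i => chkPoint 5 111 Gs 4 vs pi 7128 (i + 5400)) 100 = true := by decide +kernel

theorem x5400 : allN (fun i => Nat.beq (rowMul 5 111 (vs (i + 5400)) G_X) (vs (i + 5400))) 100 = true := by decide +kernel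

theorem h5500 : allN (fun i => chkPoint 5 111 Gs 4 vs pi 7128 (i + 5500)) 100 = true := by decide +kernel

theorem x5500 : allN (fun i => Nat.beq (rowMul 5 111 (vs (i + 5500)) G_X) (vs (i + 5500))) 100 = true := by decide +kernel

theorem h5600 : allN (fun i => chkPoint 5 111 Gs 4 vs pi 7128 (i + 5600)) 100 = true := by decide +kernel

theorem x5600 : allN (fun i => Nat.beq (rowMul 5 111 (vs (i + 5600)) G_X) (vs (i + 5600))) 100 = true := by decide +kernel

theorem h5700 : allN (fun i => chkPoint 5 111 Gs 4 vs pi 7128 (i + 5700)) 100 = true := by decide +kernel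

theorem x5700 : allN (fun i => Nat.beq (rowMul 5 111 (vs (i + 5700)) G_X) (vs (i + 5700))) 100 = true := by decide +kernel

theorem h5800 : allN (fun i => chkPoint 5 111 Gs 4 vs pi 7128 (i + 5800)) 100 = true := by decide +kernel

theorem x5800 : allN (fun i => Nat.beq (rowMul 5 111 (vs (i + 5800)) G_X) (vs (i + 5800))) 100 = true := by decide +kernel

theorem h5900 : allN (fun i => chkPoint 5 111 Gs 4 vs pi 7128 (i + 5900)) 100 = true := by decide +kernel

theorem x5900 : allN (fun i => Nat.beq (rowMul 5 111 (vs (i + 5900)) G_X) (vs (i + 5900))) 100 = true := by decide +kernel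

theorem h6000 : allN (fun i => chkPoint 5 111 Gs 4 vs pi 7128 (i + 6000)) 100 = true := by decide +kernel

theorem x6000 : allN (fun i => Nat.beq (rowMul 5 111 (vs (i + 6000)) G_X) (vs (i + 6000))) 100 = true := by decide +kernel

theorem h6100 : allN (fun i => chkPoint 5 111 Gs 4 vs pi 7128 (i + 6100)) 100 = true := by decide +kernel

theorem x6100 : allN (fun i => Nat.beq (rowMul 5 111 (vs (i + 6100)) G_X) (vs (i + 6100))) 100 = true := by decide +kernel

theorem h6200 : allN (fun i => chkPoint 5 111 Gs 4 vs pi 7128 (i + 6200)) 100 = true := by decide +kernel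

theorem x6200 : allN (fun i => Nat.beq (rowMul 5 111 (vs (i + 6200)) G_X) (vs (i + 6200))) 100 = true := by decide +kernel

theorem h6300 : allN (fun i => chkPoint 5 111 Gs 4 vs pi 7128 (i + 6300)) 100 = true := by decide +kernel

theorem x6300 : allN (fun i => Nat.beq (rowMul 5 111 (vs (i + 6300)) G_X) (vs (i + 6300))) 100 = true := by decide +kernel

theorem h6400 : allN (fun i => chkPoint 5 111 Gs 4 vs pi 7128 (i + 6400)) 100 = true := by decide +kernel

theorem x6400 : allN (fun i => Nat.beq (rowMul 5 111 (vs (i + 6400)) G_X) (vs (i + 6400))) 100 = true := by decide +kernel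

theorem h6500 : allN (fun i => chkPoint 5 111 Gs 4 vs pi 7128 (i + 6500)) 100 = true := by decide +kernel

theorem x6500 : allN (fun i => Nat.beq (rowMul 5 111 (vs (i + 6500)) G_X) (vs (i + 6500))) 100 = true := by decide +kernel

theorem h6600 : allN (fun i => chkPoint 5 111 Gs 4 vs pi 7128 (i + 6600)) 100 = true := by decide +kernel

theorem x6600 : allN (fun i => Nat.beq (rowMul 5 111 (vs (i + 6600)) G_X) (vs (i + 6600))) 100 = true := by decide +kernel

theorem h6700 : allN (fun i => chkPoint 5 111 Gs 4 vs pi 7128 (i + 6700)) 100 = true := by decide +kernel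

theorem x6700 : allN (fun i => Nat.beq (rowMul 5 111 (vs (i + 6700)) G_X) (vs (i + 6700))) 100 = true := by decide +kernel

theorem h6800 : allN (fun i => chkPoint 5 111 Gs 4 vs pi 7128 (i + 6800)) 100 = true := by decide +kernel

theorem x6800 : allN (fun i => Nat.beq (rowMul 5 111 (vs (i + 6800)) G_X) (vs (i + 6800))) 100 = true := by decide +kernel

theorem h6900 : allN (fun i => chkPoint 5 111 Gs 4 vs pi 7128 (i + 6900)) 100 = true := by decide +kernel

theorem x6900 : allN (fun i => Nat.beq (rowMul 5 111 (vs (i + 6900)) G_X) (vs (i + 6900))) 100 = true := by decide +kernel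

theorem h7000 : allN (fun i => chkPoint 5 111 Gs 4 vs pi 7128 (i + 7000)) 100 = true := by decide +kernel

theorem x7000 : allN (fun i => Nat.beq (rowMul 5 111 (vs (i + 7000)) G_X) (vs (i + 7000))) 100 = true := by decide +kernel

theorem h7100 : allN (fun i => chkPoint 5 111 Gs 4 vs pi 7128 (i + 7100)) 28 = true := by decide +kernel

theorem x7100 : allN (fun i => Nat.beq (rowMul 5 111 (vs (i + 7100)) G_X) (vs (i + 7100))) 28 = true := by decide +kernel

end Cfsg.Agent.Lib.DCE.Ly.Inv3.XiP3
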