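import Cfsg.Agent.Lib.DCE.Ly.Inv3.XiP0
import Cfsg.Agent.Lib.DCE.Ly.Inv3.XiP1
import Cfsg.Agent.Lib.DCE.Ly.Inv3.XiP2
import Cfsg.Agent.Lib.DCE.Ly.Inv3.XiP3

/-! The action of the generators on the vectors. -/

namespace Cfsg.Agent.Lib.DCE.Ly.Inv3.XiA

open Cfsg.Agent.Lib.TC.Core Cfsg.Agent.Lib.TC.Enc Cfsg.Agent.Lib.DCE.MatP Cfsg.Agent.Lib.DCE Cfsg.Agent.Lib.DCE.Ly.Inv3.XiC Cfsg.Agent.Lib.DCE.Ly.Inv3.XiG
open Cfsg.Agent.Lib.DCE.Ly.Inv3

set_option maxRecDepth 100000

theorem hP (i : Nat) (hi : i < 7128) : chkPoint 5 111 Gs 4 vs pi 7128 i = true := by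
  by_cases h0' : i < 100
  · have := allN_spec XiP0.h0 (i - 0) (by omega)
    rwa [Nat.sub_add_cancel (by omega)] at this
  by_cases h100' : i < 200
  · have := allN_spec XiP0.h100 (i - 100) (by omega)
    rwa [Nat.sub_add_cancel (by omega)] at this
  by_cases h200' : i < 300
  · have := allN_spec XiP0.h200 (i - 200) (by omega)
    rwa [Nat.sub_add_cancel (by omega)] at this
  by_cases h300' : i < 400
  · have := allN_spec XiP0.h300 (i - 300) (by omega)
    rwa [Nat.sub_add_cancel (by omega)] at this
  by_cases h400' : i < 500
  · have := allN_spec XiP0.h400 (i - 400) (by omega)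
    rwa [Nat.sub_add_cancel (by omega)] at this
  by_cases h500' : i < 600
  · have := allN_spec XiP0.h500 (i - 500) (by omega)
    rwa [Nat.sub_add_cancel (by omega)] at this
  by_cases h600' : i < 700
  · have := allN_spec XiP0.h600 (i - 600) (by omega)
    rwa [Nat.sub_add_cancel (by omega)] at this
  by_cases h700' : i < 800
  · have := allN_spec XiP0.h700 (i - 700) (by omega)
    rwa [Nat.sub_add_cancel (by omega)] at this
  by_cases h800' : i < 900
  · have := allN_spec XiP0.h800 (i - 800) (by omega)
    rwa [Nat.sub_add_cancel (by omega)] at this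
  by_cases h900' : i < 1000
  · have := allN_spec XiP0.h900 (i - 900) (by omega)
    rwa [Nat.sub_add_cancel (by omega)] at this
  by_cases h1000' : i < 1100
  · have := allN_spec XiP0.h1000 (i - 1000) (by omega)
    rwa [Nat.sub_add_cancel (by omega)] at this
  by_cases h1100' : i < 1200
  · have := allN_spec XiP0.h1100 (i - 1100) (by omega)
    rwa [Nat.sub_add_cancel (by omega)] at this
  by_cases h1200' : i < 1300
  · have := allN_spec XiP0.h1200 (i - 1200) (by omega)
    rwa [Nat.sub_add_cancel (by omega)] at this
  by_cases h1300' : i < 1400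
  · have := allN_spec XiP0.h1300 (i - 1300) (by omega)
    rwa [Nat.sub_add_cancel (by omega)] at this
  by_cases h1400' : i < 1500
  · have := allN_spec XiP0.h1400 (i - 1400) (by omega)
    rwa [Nat.sub_add_cancel (by omega)] at this
  by_cases h1500' : i < 1600
  · have := allN_spec XiP0.h1500 (i - 1500) (by omega)
    rwa [Nat.sub_add_cancel (by omega)] at this
  by_cases h1600' : i < 1700
  · have := allN_spec XiP0.h1600 (i - 1600) (by omega)
    rwa [Nat.sub_add_cancel (by omega)] at this
  by_cases h1700' : i < 1800
  · have := allN_spec XiP0.h1700 (i - 1700) (by omega)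
    rwa [Nat.sub_add_cancel (by omega)] at this
  by_cases h1800' : i < 1900
  · have := allN_spec XiP1.h1800 (i - 1800) (by omega)
    rwa [Nat.sub_add_cancel (by omega)] at this
  by_cases h1900' : i < 2000
  · have := allN_spec XiP1.h1900 (i - 1900) (by omega)
    rwa [Nat.sub_add_cancel (by omega)] at this
  by_cases h2000' : i < 2100
  · have := allN_spec XiP1.h2000 (i - 2000) (by omega)
    rwa [Nat.sub_add_cancel (by omega)] at this
  by_cases h2100' : i < 2200
  · have := allN_spec XiP1.h2100 (i - 2100) (by omega)
    rwa [Nat.sub_add_cancel (by omega)] at this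
  by_cases h2200' : i < 2300
  · have := allN_spec XiP1.h2200 (i - 2200) (by omega)
    rwa [Nat.sub_add_cancel (by omega)] at this
  by_cases h2300' : i < 2400
  · have := allN_spec XiP1.h2300 (i - 2300) (by omega)
    rwa [Nat.sub_add_cancel (by omega)] at this
  by_cases h2400' : i < 2500
  · have := allN_spec XiP1.h2400 (i - 2400) (by omega)
    rwa [Nat.sub_add_cancel (by omega)] at this
  by_cases h2500' : i < 2600
  · have := allN_spec XiP1.h2500 (i - 2500) (by omega)
    rwa [Nat.sub_add_cancel (by omega)] at this
  by_cases h2600' : i < 2700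
  · have := allN_spec XiP1.h2600 (i - 2600) (by omega)
    rwa [Nat.sub_add_cancel (by omega)] at this
  by_cases h2700' : i < 2800
  · have := allN_spec XiP1.h2700 (i - 2700) (by omega)
    rwa [Nat.sub_add_cancel (by omega)] at this
  by_cases h2800' : i < 2900
  · have := allN_spec XiP1.h2800 (i - 2800) (by omega)
    rwa [Nat.sub_add_cancel (by omega)] at this
  by_cases h2900' : i < 3000
  · have := allN_spec XiP1.h2900 (i - 2900) (by omega)
    rwa [Nat.sub_add_cancel (by omega)] at this
  by_cases h3000' : i < 3100
  · have := allN_spec XiP1.h3000 (i - 3000) (by omega)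
    rwa [Nat.sub_add_cancel (by omega)] at this
  by_cases h3100' : i < 3200
  · have := allN_spec XiP1.h3100 (i - 3100) (by omega)
    rwa [Nat.sub_add_cancel (by omega)] at this
  by_cases h3200' : i < 3300
  · have := allN_spec XiP1.h3200 (i - 3200) (by omega)
    rwa [Nat.sub_add_cancel (by omega)] at this
  by_cases h3300' : i < 3400
  · have := allN_spec XiP1.h3300 (i - 3300) (by omega)
    rwa [Nat.sub_add_cancel (by omega)] at this
  by_cases h3400' : i < 3500
  · have := allN_spec XiP1.h3400 (i - 3400) (by omega)
    rwa [Nat.sub_add_cancel (by omega)] at this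
  by_cases h3500' : i < 3600
  · have := allN_spec XiP1.h3500 (i - 3500) (by omega)
    rwa [Nat.sub_add_cancel (by omega)] at this
  by_cases h3600' : i < 3700
  · have := allN_spec XiP2.h3600 (i - 3600) (by omega)
    rwa [Nat.sub_add_cancel (by omega)] at this
  by_cases h3700' : i < 3800
  · have := allN_spec XiP2.h3700 (i - 3700) (by omega)
    rwa [Nat.sub_add_cancel (by omega)] at this
  by_cases h3800' : i < 3900
  · have := allN_spec XiP2.h3800 (i - 3800) (by omega)
    rwa [Nat.sub_add_cancel (by omega)] at this
  by_cases h3900' : i < 4000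
  · have := allN_spec XiP2.h3900 (i - 3900) (by omega)
    rwa [Nat.sub_add_cancel (by omega)] at this
  by_cases h4000' : i < 4100
  · have := allN_spec XiP2.h4000 (i - 4000) (by omega)
    rwa [Nat.sub_add_cancel (by omega)] at this
  by_cases h4100' : i < 4200
  · have := allN_spec XiP2.h4100 (i - 4100) (by omega)
    rwa [Nat.sub_add_cancel (by omega)] at this
  by_cases h4200' : i < 4300
  · have := allN_spec XiP2.h4200 (i - 4200) (by omega)
    rwa [Nat.sub_add_cancel (by omega)] at this
  by_cases h4300' : i < 4400
  · have := allN_spec XiP2.h4300 (i - 4300) (by omega)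
    rwa [Nat.sub_add_cancel (by omega)] at this
  by_cases h4400' : i < 4500
  · have := allN_spec XiP2.h4400 (i - 4400) (by omega)
    rwa [Nat.sub_add_cancel (by omega)] at this
  by_cases h4500' : i < 4600
  · have := allN_spec XiP2.h4500 (i - 4500) (by omega)
    rwa [Nat.sub_add_cancel (by omega)] at this
  by_cases h4600' : i < 4700
  · have := allN_spec XiP2.h4600 (i - 4600) (by omega)
    rwa [Nat.sub_add_cancel (by omega)] at this
  by_cases h4700' : i < 4800
  · have := allN_spec XiP2.h4700 (i - 4700) (by omega)
    rwa [Nat.sub_add_cancel (by omega)] at this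
  by_cases h4800' : i < 4900
  · have := allN_spec XiP2.h4800 (i - 4800) (by omega)
    rwa [Nat.sub_add_cancel (by omega)] at this
  by_cases h4900' : i < 5000
  · have := allN_spec XiP2.h4900 (i - 4900) (by omega)
    rwa [Nat.sub_add_cancel (by omega)] at this
  by_cases h5000' : i < 5100
  · have := allN_spec XiP2.h5000 (i - 5000) (by omega)
    rwa [Nat.sub_add_cancel (by omega)] at this
  by_cases h5100' : i < 5200
  · have := allN_spec XiP2.h5100 (i - 5100) (by omega)
    rwa [Nat.sub_add_cancel (by omega)] at this
  by_cases h5200' : i < 5300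
  · have := allN_spec XiP2.h5200 (i - 5200) (by omega)
    rwa [Nat.sub_add_cancel (by omega)] at this
  by_cases h5300' : i < 5400
  · have := allN_spec XiP2.h5300 (i - 5300) (by omega)
    rwa [Nat.sub_add_cancel (by omega)] at this
  by_cases h5400' : i < 5500
  · have := allN_spec XiP3.h5400 (i - 5400) (by omega)
    rwa [Nat.sub_add_cancel (by omega)] at this
  by_cases h5500' : i < 5600
  · have := allN_spec XiP3.h5500 (i - 5500) (by omega)
    rwa [Nat.sub_add_cancel (by omega)] at this
  by_cases h5600' : i < 5700
  · have := allN_spec XiP3.h5600 (i - 5600) (by omega)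
    rwa [Nat.sub_add_cancel (by omega)] at this
  by_cases h5700' : i < 5800
  · have := allN_spec XiP3.h5700 (i - 5700) (by omega)
    rwa [Nat.sub_add_cancel (by omega)] at this
  by_cases h5800' : i < 5900
  · have := allN_spec XiP3.h5800 (i - 5800) (by omega)
    rwa [Nat.sub_add_cancel (by omega)] at this
  by_cases h5900' : i < 6000
  · have := allN_spec XiP3.h5900 (i - 5900) (by omega)
    rwa [Nat.sub_add_cancel (by omega)] at this
  by_cases h6000' : i < 6100
  · have := allN_spec XiP3.h6000 (i - 6000) (by omega)
    rwa [Nat.sub_add_cancel (by omega)] at this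
  by_cases h6100' : i < 6200
  · have := allN_spec XiP3.h6100 (i - 6100) (by omega)
    rwa [Nat.sub_add_cancel (by omega)] at this
  by_cases h6200' : i < 6300
  · have := allN_spec XiP3.h6200 (i - 6200) (by omega)
    rwa [Nat.sub_add_cancel (by omega)] at this
  by_cases h6300' : i < 6400
  · have := allN_spec XiP3.h6300 (i - 6300) (by omega)
    rwa [Nat.sub_add_cancel (by omega)] at this
  by_cases h6400' : i < 6500
  · have := allN_spec XiP3.h6400 (i - 6400) (by omega)
    rwa [Nat.sub_add_cancel (by omega)] at this
  by_cases h6500' : i < 6600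
  · have := allN_spec XiP3.h6500 (i - 6500) (by omega)
    rwa [Nat.sub_add_cancel (by omega)] at this
  by_cases h6600' : i < 6700
  · have := allN_spec XiP3.h6600 (i - 6600) (by omega)
    rwa [Nat.sub_add_cancel (by omega)] at this
  by_cases h6700' : i < 6800
  · have := allN_spec XiP3.h6700 (i - 6700) (by omega)
    rwa [Nat.sub_add_cancel (by omega)] at this
  by_cases h6800' : i < 6900
  · have := allN_spec XiP3.h6800 (i - 6800) (by omega)
    rwa [Nat.sub_add_cancel (by omega)] at this
  by_cases h6900' : i < 7000
  · have := allN_spec XiP3.h6900 (i - 6900) (by omega)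
    rwa [Nat.sub_add_cancel (by omega)] at this
  by_cases h7000' : i < 7100
  · have := allN_spec XiP3.h7000 (i - 7000) (by omega)
    rwa [Nat.sub_add_cancel (by omega)] at this
  by_cases h7100' : i < 7128
  · have := allN_spec XiP3.h7100 (i - 7100) (by omega)
    rwa [Nat.sub_add_cancel (by omega)] at this
  omega

theorem hXf (i : Nat) (hi : i < 7128) : Nat.beq (rowMul 5 111 (vs i) G_X) (vs i) = true := by
  by_cases h0' : i < 100
  · have := allN_spec XiP0.x0 (i - 0) (by omega)
    rwa [Nat.sub_add_cancel (by omega)] at this
  by_cases h100' : i < 200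
  · have := allN_spec XiP0.x100 (i - 100) (by omega)
    rwa [Nat.sub_add_cancel (by omega)] at this
  by_cases h200' : i < 300
  · have := allN_spec XiP0.x200 (i - 200) (by omega)
    rwa [Nat.sub_add_cancel (by omega)] at this
  by_cases h300' : i < 400
  · have := allN_spec XiP0.x300 (i - 300) (by omega)
    rwa [Nat.sub_add_cancel (by omega)] at this
  by_cases h400' : i < 500
  · have := allN_spec XiP0.x400 (i - 400) (by omega)
    rwa [Nat.sub_add_cancel (by omega)] at this
  by_cases h500' : i < 600
  · have := allN_spec XiP0.x500 (i - 500) (by omega)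
    rwa [Nat.sub_add_cancel (by omega)] at this
  by_cases h600' : i < 700
  · have := allN_spec XiP0.x600 (i - 600) (by omega)
    rwa [Nat.sub_add_cancel (by omega)] at this
  by_cases h700' : i < 800
  · have := allN_spec XiP0.x700 (i - 700) (by omega)
    rwa [Nat.sub_add_cancel (by omega)] at this
  by_cases h800' : i < 900
  · have := allN_spec XiP0.x800 (i - 800) (by omega)
    rwa [Nat.sub_add_cancel (by omega)] at this
  by_cases h900' : i < 1000
  · have := allN_spec XiP0.x900 (i - 900) (by omega)
    rwa [Nat.sub_add_cancel (by omega)] at this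
  by_cases h1000' : i < 1100
  · have := allN_spec XiP0.x1000 (i - 1000) (by omega)
    rwa [Nat.sub_add_cancel (by omega)] at this
  by_cases h1100' : i < 1200
  · have := allN_spec XiP0.x1100 (i - 1100) (by omega)
    rwa [Nat.sub_add_cancel (by omega)] at this
  by_cases h1200' : i < 1300
  · have := allN_spec XiP0.x1200 (i - 1200) (by omega)
    rwa [Nat.sub_add_cancel (by omega)] at this
  by_cases h1300' : i < 1400
  · have := allN_spec XiP0.x1300 (i - 1300) (by omega)
    rwa [Nat.sub_add_cancel (by omega)] at this
  by_cases h1400' : i < 1500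
  · have := allN_spec XiP0.x1400 (i - 1400) (by omega)
    rwa [Nat.sub_add_cancel (by omega)] at this
  by_cases h1500' : i < 1600
  · have := allN_spec XiP0.x1500 (i - 1500) (by omega)
    rwa [Nat.sub_add_cancel (by omega)] at this
  by_cases h1600' : i < 1700
  · have := allN_spec XiP0.x1600 (i - 1600) (by omega)
    rwa [Nat.sub_add_cancel (by omega)] at this
  by_cases h1700' : i < 1800
  · have := allN_spec XiP0.x1700 (i - 1700) (by omega)
    rwa [Nat.sub_add_cancel (by omega)] at this
  by_cases h1800' : i < 1900
  · have := allN_spec XiP1.x1800 (i - 1800) (by omega)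
    rwa [Nat.sub_add_cancel (by omega)] at this
  by_cases h1900' : i < 2000
  · have := allN_spec XiP1.x1900 (i - 1900) (by omega)
    rwa [Nat.sub_add_cancel (by omega)] at this
  by_cases h2000' : i < 2100
  · have := allN_spec XiP1.x2000 (i - 2000) (by omega)
    rwa [Nat.sub_add_cancel (by omega)] at this
  by_cases h2100' : i < 2200
  · have := allN_spec XiP1.x2100 (i - 2100) (by omega)
    rwa [Nat.sub_add_cancel (by omega)] at this
  by_cases h2200' : i < 2300
  · have := allN_spec XiP1.x2200 (i - 2200) (by omega)
    rwa [Nat.sub_add_cancel (by omega)] at this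
  by_cases h2300' : i < 2400
  · have := allN_spec XiP1.x2300 (i - 2300) (by omega)
    rwa [Nat.sub_add_cancel (by omega)] at this
  by_cases h2400' : i < 2500
  · have := allN_spec XiP1.x2400 (i - 2400) (by omega)
    rwa [Nat.sub_add_cancel (by omega)] at this
  by_cases h2500' : i < 2600
  · have := allN_spec XiP1.x2500 (i - 2500) (by omega)
    rwa [Nat.sub_add_cancel (by omega)] at this
  by_cases h2600' : i < 2700
  · have := allN_spec XiP1.x2600 (i - 2600) (by omega)
    rwa [Nat.sub_add_cancel (by omega)] at this
  by_cases h2700' : i < 2800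
  · have := allN_spec XiP1.x2700 (i - 2700) (by omega)
    rwa [Nat.sub_add_cancel (by omega)] at this
  by_cases h2800' : i < 2900
  · have := allN_spec XiP1.x2800 (i - 2800) (by omega)
    rwa [Nat.sub_add_cancel (by omega)] at this
  by_cases h2900' : i < 3000
  · have := allN_spec XiP1.x2900 (i - 2900) (by omega)
    rwa [Nat.sub_add_cancel (by omega)] at this
  by_cases h3000' : i < 3100
  · have := allN_spec XiP1.x3000 (i - 3000) (by omega)
    rwa [Nat.sub_add_cancel (by omega)] at this
  by_cases h3100' : i < 3200
  · have := allN_spec XiP1.x3100 (i - 3100) (by omega)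
    rwa [Nat.sub_add_cancel (by omega)] at this
  by_cases h3200' : i < 3300
  · have := allN_spec XiP1.x3200 (i - 3200) (by omega)
    rwa [Nat.sub_add_cancel (by omega)] at this
  by_cases h3300' : i < 3400
  · have := allN_spec XiP1.x3300 (i - 3300) (by omega)
    rwa [Nat.sub_add_cancel (by omega)] at this
  by_cases h3400' : i < 3500
  · have := allN_spec XiP1.x3400 (i - 3400) (by omega)
    rwa [Nat.sub_add_cancel (by omega)] at this
  by_cases h3500' : i < 3600
  · have := allN_spec XiP1.x3500 (i - 3500) (by omega)
    rwa [Nat.sub_add_cancel (by omega)] at this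
  by_cases h3600' : i < 3700
  · have := allN_spec XiP2.x3600 (i - 3600) (by omega)
    rwa [Nat.sub_add_cancel (by omega)] at this
  by_cases h3700' : i < 3800
  · have := allN_spec XiP2.x3700 (i - 3700) (by omega)
    rwa [Nat.sub_add_cancel (by omega)] at this
  by_cases h3800' : i < 3900
  · have := allN_spec XiP2.x3800 (i - 3800) (by omega)
    rwa [Nat.sub_add_cancel (by omega)] at this
  by_cases h3900' : i < 4000
  · have := allN_spec XiP2.x3900 (i - 3900) (by omega)
    rwa [Nat.sub_add_cancel (by omega)] at this
  by_cases h4000' : i < 4100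
  · have := allN_spec XiP2.x4000 (i - 4000) (by omega)
    rwa [Nat.sub_add_cancel (by omega)] at this
  by_cases h4100' : i < 4200
  · have := allN_spec XiP2.x4100 (i - 4100) (by omega)
    rwa [Nat.sub_add_cancel (by omega)] at this
  by_cases h4200' : i < 4300
  · have := allN_spec XiP2.x4200 (i - 4200) (by omega)
    rwa [Nat.sub_add_cancel (by omega)] at this
  by_cases h4300' : i < 4400
  · have := allN_spec XiP2.x4300 (i - 4300) (by omega)
    rwa [Nat.sub_add_cancel (by omega)] at this
  by_cases h4400' : i < 4500
  · have := allN_spec XiP2.x4400 (i - 4400) (by omega)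
    rwa [Nat.sub_add_cancel (by omega)] at this
  by_cases h4500' : i < 4600
  · have := allN_spec XiP2.x4500 (i - 4500) (by omega)
    rwa [Nat.sub_add_cancel (by omega)] at this
  by_cases h4600' : i < 4700
  · have := allN_spec XiP2.x4600 (i - 4600) (by omega)
    rwa [Nat.sub_add_cancel (by omega)] at this
  by_cases h4700' : i < 4800
  · have := allN_spec XiP2.x4700 (i - 4700) (by omega)
    rwa [Nat.sub_add_cancel (by omega)] at this
  by_cases h4800' : i < 4900
  · have := allN_spec XiP2.x4800 (i - 4800) (by omega)
    rwa [Nat.sub_add_cancel (by omega)] at this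
  by_cases h4900' : i < 5000
  · have := allN_spec XiP2.x4900 (i - 4900) (by omega)
    rwa [Nat.sub_add_cancel (by omega)] at this
  by_cases h5000' : i < 5100
  · have := allN_spec XiP2.x5000 (i - 5000) (by omega)
    rwa [Nat.sub_add_cancel (by omega)] at this
  by_cases h5100' : i < 5200
  · have := allN_spec XiP2.x5100 (i - 5100) (by omega)
    rwa [Nat.sub_add_cancel (by omega)] at this
  by_cases h5200' : i < 5300
  · have := allN_spec XiP2.x5200 (i - 5200) (by omega)
    rwa [Nat.sub_add_cancel (by omega)] at this
  by_cases h5300' : i < 5400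
  · have := allN_spec XiP2.x5300 (i - 5300) (by omega)
    rwa [Nat.sub_add_cancel (by omega)] at this
  by_cases h5400' : i < 5500
  · have := allN_spec XiP3.x5400 (i - 5400) (by omega)
    rwa [Nat.sub_add_cancel (by omega)] at this
  by_cases h5500' : i < 5600
  · have := allN_spec XiP3.x5500 (i - 5500) (by omega)
    rwa [Nat.sub_add_cancel (by omega)] at this
  by_cases h5600' : i < 5700
  · have := allN_spec XiP3.x5600 (i - 5600) (by omega)
    rwa [Nat.sub_add_cancel (by omega)] at this
  by_cases h5700' : i < 5800
  · have := allN_spec XiP3.x5700 (i - 5700) (by omega)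
    rwa [Nat.sub_add_cancel (by omega)] at this
  by_cases h5800' : i < 5900
  · have := allN_spec XiP3.x5800 (i - 5800) (by omega)
    rwa [Nat.sub_add_cancel (by omega)] at this
  by_cases h5900' : i < 6000
  · have := allN_spec XiP3.x5900 (i - 5900) (by omega)
    rwa [Nat.sub_add_cancel (by omega)] at this
  by_cases h6000' : i < 6100
  · have := allN_spec XiP3.x6000 (i - 6000) (by omega)
    rwa [Nat.sub_add_cancel (by omega)] at this
  by_cases h6100' : i < 6200
  · have := allN_spec XiP3.x6100 (i - 6100) (by omega)
    rwa [Nat.sub_add_cancel (by omega)] at this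
  by_cases h6200' : i < 6300
  · have := allN_spec XiP3.x6200 (i - 6200) (by omega)
    rwa [Nat.sub_add_cancel (by omega)] at this
  by_cases h6300' : i < 6400
  · have := allN_spec XiP3.x6300 (i - 6300) (by omega)
    rwa [Nat.sub_add_cancel (by omega)] at this
  by_cases h6400' : i < 6500
  · have := allN_spec XiP3.x6400 (i - 6400) (by omega)
    rwa [Nat.sub_add_cancel (by omega)] at this
  by_cases h6500' : i < 6600
  · have := allN_spec XiP3.x6500 (i - 6500) (by omega)
    rwa [Nat.sub_add_cancel (by omega)] at this
  by_cases h6600' : i < 6700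
  · have := allN_spec XiP3.x6600 (i - 6600) (by omega)
    rwa [Nat.sub_add_cancel (by omega)] at this
  by_cases h6700' : i < 6800
  · have := allN_spec XiP3.x6700 (i - 6700) (by omega)
    rwa [Nat.sub_add_cancel (by omega)] at this
  by_cases h6800' : i < 6900
  · have := allN_spec XiP3.x6800 (i - 6800) (by omega)
    rwa [Nat.sub_add_cancel (by omega)] at this
  by_cases h6900' : i < 7000
  · have := allN_spec XiP3.x6900 (i - 6900) (by omega)
    rwa [Nat.sub_add_cancel (by omega)] at this
  by_cases h7000' : i < 7100
  · have := allN_spec XiP3.x7000 (i - 7000) (by omega)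
    rwa [Nat.sub_add_cancel (by omega)] at this
  by_cases h7100' : i < 7128
  · have := allN_spec XiP3.x7100 (i - 7100) (by omega)
    rwa [Nat.sub_add_cancel (by omega)] at this
  omega

theorem hO : allN (chkOrd vs) 7127 = true := by decide +kernel

end Cfsg.Agent.Lib.DCE.Ly.Inv3.XiA
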