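import Cfsg.Agent.Lib.DCE.Ly.Inv3.XiC
import Cfsg.Agent.Lib.DCE.Ly.Inv3.XiG
import Cfsg.Agent.Lib.DCE.MatV

/-! The action of the generators on the vectors. -/

namespace Cfsg.Agent.Lib.DCE.Ly.Inv3.XiP0

open Cfsg.Agent.Lib.TC.Core Cfsg.Agent.Lib.TC.Enc Cfsg.Agent.Lib.DCE.MatP Cfsg.Agent.Lib.DCE Cfsg.Agent.Lib.DCE.Ly.Inv3.XiC Cfsg.Agent.Lib.DCE.Ly.Inv3.XiG

set_option maxRecDepth 100000

theorem h0 : allN (fun i => chkPoint 5 111 Gs 4 vs pi 7128 (i + 0)) 100 = true := by decide +kernel

theorem x0 : allN (fun i => Nat.beq (rowMul 5 111 (vs (i + 0)) G_X) (vs (i + 0))) 100 = true := by decide +kernel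

theorem h100 : allN (fun i => chkPoint 5 111 Gs 4 vs pi 7128 (i + 100)) 100 = true := by decide +kernel

theorem x100 : allN (fun i => Nat.beq (rowMul 5 111 (vs (i + 100)) G_X) (vs (i + 100))) 100 = true := by decide +kernel

theorem h200 : allN (fun i => chkPoint 5 111 Gs 4 vs pi 7128 (i + 200)) 100 = true := by decide +kernel

theorem x200 : allN (fun i => Nat.beq (rowMul 5 111 (vs (i + 200)) G_X) (vs (i + 200))) 100 = true := by decide +kernel

theorem h300 : allN (fun i => chkPoint 5 111 Gs 4 vs pi 7128 (i + 300)) 100 = true := by decide +kernel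

theorem x300 : allN (fun i => Nat.beq (rowMul 5 111 (vs (i + 300)) G_X) (vs (i + 300))) 100 = true := by decide +kernel

theorem h400 : allN (fun i => chkPoint 5 111 Gs 4 vs pi 7128 (i + 400)) 100 = true := by decide +kernel

theorem x400 : allN (fun i => Nat.beq (rowMul 5 111 (vs (i + 400)) G_X) (vs (i + 400))) 100 = true := by decide +kernel

theorem h500 : allN (fun i => chkPoint 5 111 Gs 4 vs pi 7128 (i + 500)) 100 = true := by decide +kernel

theorem x500 : allN (fun i => Nat.beq (rowMul 5 111 (vs (i + 500)) G_X) (vs (i + 500))) 100 = true := by decide +kernel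

theorem h600 : allN (fun i => chkPoint 5 111 Gs 4 vs pi 7128 (i + 600)) 100 = true := by decide +kernel

theorem x600 : allN (fun i => Nat.beq (rowMul 5 111 (vs (i + 600)) G_X) (vs (i + 600))) 100 = true := by decide +kernel

theorem h700 : allN (fun i => chkPoint 5 111 Gs 4 vs pi 7128 (i + 700)) 100 = true := by decide +kernel

theorem x700 : allN (fun i => Nat.beq (rowMul 5 111 (vs (i + 700)) G_X) (vs (i + 700))) 100 = true := by decide +kernel

theorem h800 : allN (fun i => chkPoint 5 111 Gs 4 vs pi 7128 (i + 800)) 100 = true := by decide +kernel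

theorem x800 : allN (fun i => Nat.beq (rowMul 5 111 (vs (i + 800)) G_X) (vs (i + 800))) 100 = true := by decide +kernel

theorem h900 : allN (fun i => chkPoint 5 111 Gs 4 vs pi 7128 (i + 900)) 100 = true := by decide +kernel

theorem x900 : allN (fun i => Nat.beq (rowMul 5 111 (vs (i + 900)) G_X) (vs (i + 900))) 100 = true := by decide +kernel

theorem h1000 : allN (fun i => chkPoint 5 111 Gs 4 vs pi 7128 (i + 1000)) 100 = true := by decide +kernel

theorem x1000 : allN (fun i => Nat.beq (rowMul 5 111 (vs (i + 1000)) G_X) (vs (i + 1000))) 100 = true := by decide +kernel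

theorem h1100 : allN (fun i => chkPoint 5 111 Gs 4 vs pi 7128 (i + 1100)) 100 = true := by decide +kernel

theorem x1100 : allN (fun i => Nat.beq (rowMul 5 111 (vs (i + 1100)) G_X) (vs (i + 1100))) 100 = true := by decide +kernel

theorem h1200 : allN (fun i => chkPoint 5 111 Gs 4 vs pi 7128 (i + 1200)) 100 = true := by decide +kernel

theorem x1200 : allN (fun i => Nat.beq (rowMul 5 111 (vs (i + 1200)) G_X) (vs (i + 1200))) 100 = true := by decide +kernel

theorem h1300 : allN (fun i => chkPoint 5 111 Gs 4 vs pi 7128 (i + 1300)) 100 = true := by decide +kernel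

theorem x1300 : allN (fun i => Nat.beq (rowMul 5 111 (vs (i + 1300)) G_X) (vs (i + 1300))) 100 = true := by decide +kernel

theorem h1400 : allN (fun i => chkPoint 5 111 Gs 4 vs pi 7128 (i + 1400)) 100 = true := by decide +kernel

theorem x1400 : allN (fun i => Nat.beq (rowMul 5 111 (vs (i + 1400)) G_X) (vs (i + 1400))) 100 = true := by decide +kernel

theorem h1500 : allN (fun i => chkPoint 5 111 Gs 4 vs pi 7128 (i + 1500)) 100 = true := by decide +kernel

theorem x1500 : allN (fun i => Nat.beq (rowMul 5 111 (vs (i + 1500)) G_X) (vs (i + 1500))) 100 = true := by decide +kernel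

theorem h1600 : allN (fun i => chkPoint 5 111 Gs 4 vs pi 7128 (i + 1600)) 100 = true := by decide +kernel

theorem x1600 : allN (fun i => Nat.beq (rowMul 5 111 (vs (i + 1600)) G_X) (vs (i + 1600))) 100 = true := by decide +kernel

theorem h1700 : allN (fun i => chkPoint 5 111 Gs 4 vs pi 7128 (i + 1700)) 100 = true := by decide +kernel

theorem x1700 : allN (fun i => Nat.beq (rowMul 5 111 (vs (i + 1700)) G_X) (vs (i + 1700))) 100 = true := by decide +kernel

end Cfsg.Agent.Lib.DCE.Ly.Inv3.XiP0
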